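import Groth.Agent.UVD13201.Factorial

/-!
# The ring `R[[u,v]]/(uv - Δ)` carries a `UVData`
-/

set_option autoImplicit false
universe u

namespace Groth.Agent.UVD13201

open MvPowerSeries

variable (R : Type u) [CommRing R]

/-- `Unit ↪ Fin 2` at `j` -/
def emb (j : Fin 2) : Unit ↪ Fin 2 := ⟨fun _ => j, fun _ _ _ => rfl⟩

theorem X_dvd_of_killCompl (i j : Fin 2) (hij : i ≠ j) (f : MvPowerSeries (Fin 2) R)
    (hf : killCompl (emb j) f = 0) : X i ∣ f := by
  rw [X_dvd_iff]
  intro m hm
  have : m = Finsupp.embDomain (emb j) (Finsupp.single () (m j)) := by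
    rw [Finsupp.embDomain_single]
    ext a
    fin_cases i <;> fin_cases j <;> fin_cases a <;> simp_all [emb]
  rw [this, ← coeff_killCompl, hf, map_zero]

theorem killCompl_X_self (j : Fin 2) : killCompl (R := R) (emb j) (X j) = PowerSeries.X :=
  killCompl_X (e := emb j) ()

theorem killCompl_X_other (i j : Fin 2) (hij : i ≠ j) : killCompl (R := R) (emb j) (X i) = 0 :=
  killCompl_X_eq_zero (by simp [emb, hij, Ne.symm hij])

variable {R} (Δ : R)

/-- `uv - Δ` -/
noncomputable def rel : MvPowerSeries (Fin 2) R := X 0 * X 1 - C Δ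

/-- reduction modulo the other variable and `Δ`, on power series -/
noncomputable def red (j : Fin 2) : MvPowerSeries (Fin 2) R →+* PowerSeries (R ⧸ Ideal.span {Δ}) :=
  (PowerSeries.map (Ideal.Quotient.mk _)).comp
    (killCompl (R := R) (emb j) : MvPowerSeries (Fin 2) R →ₐ[R] PowerSeries R).toRingHom

theorem red_rel (j : Fin 2) : red Δ j (rel Δ) = 0 := by
  fin_cases j <;>
  simp [red, rel, killCompl_X_self, killCompl_X_other, killCompl_C, Ideal.Quotient.eq_zero_iff_mem.mpr
    (Ideal.mem_span_singleton_self Δ)] <;>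
  exact (PowerSeries.map_C _ _).trans (by simp [Ideal.Quotient.eq_zero_iff_mem.mpr
    (Ideal.mem_span_singleton_self Δ)])

/-- reduction modulo the other variable and `Δ` -/
noncomputable def redS (j : Fin 2) :
    MvPowerSeries (Fin 2) R ⧸ Ideal.span {rel Δ} →+* PowerSeries (R ⧸ Ideal.span {Δ}) :=
  Ideal.Quotient.lift _ (red Δ j) fun a ha => by
    obtain ⟨b, rfl⟩ := Ideal.mem_span_singleton.mp ha
    rw [map_mul, red_rel, zero_mul]

theorem redS_mk (j : Fin 2) (f : MvPowerSeries (Fin 2) R) :
    redS Δ j (Ideal.Quotient.mk _ f) =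
      PowerSeries.map (Ideal.Quotient.mk (Ideal.span {Δ})) (killCompl (emb j) f : PowerSeries R) := rfl

theorem redS_surjective (j : Fin 2) : Function.Surjective (redS Δ j) := fun g => by
  obtain ⟨g', rfl⟩ := PowerSeries.map_surjective (Ideal.Quotient.mk (Ideal.span {Δ})) Ideal.Quotient.mk_surjective g
  refine ⟨Ideal.Quotient.mk _ (rename (emb j) g'), ?_⟩
  show PowerSeries.map (Ideal.Quotient.mk (Ideal.span {Δ})) (killCompl (emb j) (rename (emb j) g') : PowerSeries R) = _
  rw [killCompl_rename_app]

theorem redS_ker (i j : Fin 2) (hij : i ≠ j) (x : MvPowerSeries (Fin 2) R ⧸ Ideal.span {rel Δ})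
    (hx : redS Δ j x = 0) : Ideal.Quotient.mk _ (X i) ∣ x := by
  obtain ⟨f, rfl⟩ := Ideal.Quotient.mk_surjective x
  have h : ∀ n, Δ ∣ PowerSeries.coeff n (killCompl (emb j) f) := fun n => by
    have := congrArg (PowerSeries.coeff n) hx
    rw [map_zero] at this
    exact Ideal.mem_span_singleton.mp (Ideal.Quotient.eq_zero_iff_mem.mp this)
  choose g hg using h
  set g' : MvPowerSeries (Fin 2) R := rename (emb j) (PowerSeries.mk g) with hg'
  have hk : killCompl (emb j) (f - C Δ * g') = 0 := by
    rw [map_sub, map_mul, hg', killCompl_rename_app, killCompl_C, sub_eq_zero]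
    exact PowerSeries.ext fun n => by
      rw [hg n]
      exact ((PowerSeries.coeff_C_mul n (PowerSeries.mk g) Δ).trans (by rw [PowerSeries.coeff_mk])).symm
  obtain ⟨w, hw⟩ := X_dvd_of_killCompl R i j hij _ hk
  have hC : Ideal.Quotient.mk (Ideal.span {rel Δ}) (C Δ) =
      Ideal.Quotient.mk _ (X 0) * Ideal.Quotient.mk _ (X 1) := by
    rw [← map_mul, Eq.comm, Ideal.Quotient.eq]
    exact Ideal.mem_span_singleton_self _
  rw [sub_eq_iff_eq_add.mp hw, map_add, map_mul, map_mul, hC]
  refine dvd_add (dvd_mul_right _ _) (dvd_mul_of_dvd_left ?_ _)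
  fin_cases i
  · exact dvd_mul_right _ _
  · exact dvd_mul_left _ _

theorem mul_X_eq_zero [IsDomain R] (hΔ : Δ ≠ 0) (i j : Fin 2) (hij : i ≠ j)
    (x : MvPowerSeries (Fin 2) R ⧸ Ideal.span {rel Δ}) (hx : Ideal.Quotient.mk _ (X i) * x = 0) :
    x = 0 := by
  obtain ⟨f, rfl⟩ := Ideal.Quotient.mk_surjective x
  rw [← map_mul, Ideal.Quotient.eq_zero_iff_mem, Ideal.mem_span_singleton] at hx
  obtain ⟨g, hg⟩ := hx
  have hrel : killCompl (emb j) (rel Δ) ≠ 0 := by
    intro h
    have h' := congrArg (PowerSeries.coeff 0) h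
    fin_cases i <;> fin_cases j <;> simp_all [rel, killCompl_X_self, killCompl_X_other, killCompl_C] <;>
      exact hΔ (by simpa using congrArg MvPowerSeries.constantCoeff h)
  have hg0 : killCompl (emb j) g = 0 := by
    have h' := congrArg (killCompl (R := R) (emb j)) hg
    rw [map_mul, map_mul, killCompl_X_other R i j hij, zero_mul] at h'
    haveI : IsDomain (PowerSeries R) := inferInstance
    exact (mul_eq_zero.mp h'.symm).resolve_left hrel
  obtain ⟨g', rfl⟩ := X_dvd_of_killCompl R i j hij g hg0
  rw [Ideal.Quotient.eq_zero_iff_mem, Ideal.mem_span_singleton]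
  haveI : IsDomain (MvPowerSeries (Fin 2) R) := NoZeroDivisors.to_isDomain _
  refine ⟨g', mul_left_cancel₀ (show (X i : MvPowerSeries (Fin 2) R) ≠ 0 from fun h => ?_) (by rw [hg]; ring)⟩
  have h' := congrArg (coeff (Finsupp.single i 1)) h
  simp [coeff_X] at h'

theorem dense_quot (x : MvPowerSeries (Fin 2) R ⧸ Ideal.span {rel Δ}) (n : ℕ) :
    ∃ a ∈ Algebra.adjoin R {Ideal.Quotient.mk (Ideal.span {rel Δ}) (X 0), Ideal.Quotient.mk _ (X 1)},
      x - a ∈ Ideal.span {Ideal.Quotient.mk (Ideal.span {rel Δ}) (X 0), Ideal.Quotient.mk _ (X 1)} ^ n := by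
  obtain ⟨f, rfl⟩ := Ideal.Quotient.mk_surjective x
  let π : MvPolynomial (Fin 2) R →ₐ[R] MvPowerSeries (Fin 2) R ⧸ Ideal.span {rel Δ} :=
    (Ideal.Quotient.mkₐ R _).comp (MvPolynomial.coeToMvPowerSeries.algHom R)
  refine ⟨π (truncTotal n f), ?_, ?_⟩
  · have hX : ∀ i, π (MvPolynomial.X i) = Ideal.Quotient.mk _ (X i) := fun i => by simp [π]
    induction truncTotal n f using MvPolynomial.induction_on with
    | C a => exact MvPolynomial.algHom_C π a ▸ Subalgebra.algebraMap_mem _ a
    | add p q hp hq => rw [map_add]; exact add_mem hp hq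
    | mul_X p i hp =>
      rw [map_mul, hX]
      exact mul_mem hp (Algebra.subset_adjoin (by fin_cases i <;> simp))
  · have hmem : ∀ (n : ℕ) (p : MvPowerSeries (Fin 2) R), (∀ m : Fin 2 →₀ ℕ, m.degree < n → coeff m p = 0) →
        p ∈ (Ideal.span (Set.range (X : Fin 2 → MvPowerSeries (Fin 2) R))) ^ n := by
      intro n
      induction n with
      | zero => intro p _; simp
      | succ n ih =>
        intro p hp
        let a : MvPowerSeries (Fin 2) R := fun m => coeff (m + Finsupp.single 0 1) p
        let b : MvPowerSeries (Fin 2) R := fun m => if m 0 = 0 then coeff (m + Finsupp.single 1 1) p else 0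
        have hp' : p = X 0 * a + X 1 * b := by
          ext m
          rw [map_add, X, X, coeff_monomial_mul, coeff_monomial_mul, one_mul, one_mul]
          by_cases h0 : m 0 = 0
          · rw [if_neg (by intro h; have := h 0; simp [h0] at this), zero_add]
            by_cases h1 : m 1 = 0
            · rw [if_neg (by intro h; have := h 1; simp [h1] at this)]
              apply hp
              rw [Finsupp.degree_eq_sum, Fin.sum_univ_two, h0, h1]
              omega
            · have hle : Finsupp.single 1 1 ≤ m := Finsupp.single_le_iff.mpr (by omega)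
              rw [if_pos hle]
              show _ = if ((m - Finsupp.single 1 1 : Fin 2 →₀ ℕ) : Fin 2 → ℕ) 0 = 0 then coeff (m - Finsupp.single 1 1 + Finsupp.single 1 1) p else 0
              rw [if_pos (by simp [h0]), tsub_add_cancel_of_le hle]
          · have hle : Finsupp.single 0 1 ≤ m := Finsupp.single_le_iff.mpr (by omega)
            rw [if_pos hle]
            have hb : (if Finsupp.single 1 1 ≤ m then coeff (m - Finsupp.single 1 1) b else 0) = 0 := by
              split
              · exact if_neg (by simp [h0])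
              · rfl
            rw [hb, add_zero]
            show _ = coeff (m - Finsupp.single 0 1 + Finsupp.single 0 1) p
            rw [tsub_add_cancel_of_le hle]
        rw [hp', pow_succ']
        refine Ideal.add_mem _ (Ideal.mul_mem_mul (Ideal.subset_span ⟨0, rfl⟩) (ih a fun m hm => hp _ ?_))
          (Ideal.mul_mem_mul (Ideal.subset_span ⟨1, rfl⟩) (ih b fun m hm => ?_))
        · rw [map_add, Finsupp.degree_single]; omega
        · show (if m 0 = 0 then _ else 0) = (0 : R)
          split
          · exact hp _ (by rw [map_add, Finsupp.degree_single]; omega)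
          · rfl
    show Ideal.Quotient.mk _ f - Ideal.Quotient.mk _ (truncTotal n f : MvPowerSeries (Fin 2) R) ∈ _
    rw [← map_sub]
    have := Ideal.mem_map_of_mem (Ideal.Quotient.mk (Ideal.span {rel Δ}))
      (hmem n (f - (truncTotal n f : MvPowerSeries (Fin 2) R)) fun m hm => by
        rw [map_sub, MvPolynomial.coeff_coe, coeff_truncTotal _ hm, sub_self])
    rw [Ideal.map_pow, Ideal.map_span, ← Set.range_comp] at this
    convert this using 3
    congr 1
    ext y
    simp [Fin.exists_fin_two, eq_comm]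

/-- the data -/
noncomputable def uvData [IsDomain R] (hΔ : Δ ≠ 0) [IsLocalRing R] :
    UVData Δ (MvPowerSeries (Fin 2) R ⧸ Ideal.span {rel Δ}) where
  u := Ideal.Quotient.mk _ (X 0)
  v := Ideal.Quotient.mk _ (X 1)
  mul := by
    rw [← map_mul]
    exact Ideal.Quotient.eq.mpr (Ideal.mem_span_singleton_self _)
  φu := redS Δ 1
  φv := redS Δ 0
  surj_u := redS_surjective Δ 1
  surj_v := redS_surjective Δ 0
  ker_u := redS_ker Δ 0 1 (by decide)
  ker_v := redS_ker Δ 1 0 (by decide)
  φu_u := by simp [redS, red, killCompl_X_other]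
  φu_v := by
    rw [redS_mk, killCompl_X_self]
    exact PowerSeries.map_X _
  φv_v := by simp [redS, red, killCompl_X_other]
  φv_u := by
    rw [redS_mk, killCompl_X_self]
    exact PowerSeries.map_X _
  φu_C := fun c => by
    rw [show algebraMap R (MvPowerSeries (Fin 2) R ⧸ Ideal.span {rel Δ}) c = Ideal.Quotient.mk _ (C c) from rfl,
      redS_mk, killCompl_C]
    exact PowerSeries.map_C _ _
  φv_C := fun c => by
    rw [show algebraMap R (MvPowerSeries (Fin 2) R ⧸ Ideal.span {rel Δ}) c = Ideal.Quotient.mk _ (C c) from rfl,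
      redS_mk, killCompl_C]
    exact PowerSeries.map_C _ _
  reg_u := mul_X_eq_zero Δ hΔ 0 1 (by decide)
  reg_v := mul_X_eq_zero Δ hΔ 1 0 (by decide)
  dense := dense_quot Δ

end Groth.Agent.UVD13201
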