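import Mathlib
import Groth.Agent.RegLoc.UFD

/-!
# Complete rings `R[[u,v]]/(uv - Δ)`: generic facts
-/

set_option autoImplicit false
universe u

namespace Groth.Agent.UVD13201

open IsLocalRing

variable {R : Type u} [CommRing R] [IsLocalRing R]

/-- the axiomatisation of `R[[u,v]]/(uv - Δ)` used below, symmetric in `u` and `v` -/
structure UVData (Δ : R) (S : Type u) [CommRing S] [Algebra R S] where
  u : S
  v : S
  mul : u * v = algebraMap R S Δ
  φu : S →+* PowerSeries (R ⧸ Ideal.span {Δ})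
  φv : S →+* PowerSeries (R ⧸ Ideal.span {Δ})
  surj_u : Function.Surjective φu
  surj_v : Function.Surjective φv
  ker_u : ∀ x, φu x = 0 → u ∣ x
  ker_v : ∀ x, φv x = 0 → v ∣ x
  φu_u : φu u = 0
  φu_v : φu v = PowerSeries.X
  φv_v : φv v = 0
  φv_u : φv u = PowerSeries.X
  φu_C : ∀ c, φu (algebraMap R S c) = PowerSeries.C (Ideal.Quotient.mk _ c)
  φv_C : ∀ c, φv (algebraMap R S c) = PowerSeries.C (Ideal.Quotient.mk _ c)
  reg_u : ∀ x, u * x = 0 → x = 0
  reg_v : ∀ x, v * x = 0 → x = 0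
  dense : ∀ (x : S) (n : ℕ), ∃ a ∈ Algebra.adjoin R {u, v}, x - a ∈ Ideal.span {u, v} ^ n

variable {Δ : R} {S : Type u} [CommRing S] [Algebra R S] (hΔ : Δ ∈ maximalIdeal R)

/-- exchanging `u` and `v` -/
def UVData.swap (D : UVData Δ S) : UVData Δ S where
  u := D.v
  v := D.u
  mul := by rw [mul_comm, D.mul]
  φu := D.φv
  φv := D.φu
  surj_u := D.surj_v
  surj_v := D.surj_u
  ker_u := D.ker_v
  ker_v := D.ker_u
  φu_u := D.φv_v
  φu_v := D.φv_u
  φv_v := D.φu_u
  φv_u := D.φu_v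
  φu_C := D.φv_C
  φv_C := D.φu_C
  reg_u := D.reg_v
  reg_v := D.reg_u
  dense := by simpa [Set.pair_comm] using D.dense

/-- the residue map of `R ⧸ (Δ)` -/
noncomputable def res : R ⧸ Ideal.span {Δ} →+* ResidueField R :=
  Ideal.Quotient.lift _ (residue R) fun a ha => by
    obtain ⟨b, rfl⟩ := Ideal.mem_span_singleton.mp ha
    rw [map_mul, (residue_eq_zero_iff Δ).mpr hΔ, zero_mul]

theorem nontrivial_bar (hΔ : Δ ∈ maximalIdeal R) : Nontrivial (R ⧸ Ideal.span {Δ}) :=
  Ideal.Quotient.nontrivial_iff.mpr fun h =>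
    (maximalIdeal.isMaximal R).ne_top (top_le_iff.mp (h.symm.le.trans (by simpa [Ideal.span_le] using hΔ)))

/-- reduction to `k[[v]]` -/
noncomputable def UVData.psi (D : UVData Δ S) : S →+* PowerSeries (ResidueField R) :=
  (PowerSeries.map (res hΔ)).comp D.φu

/-- the prime `(m, u)` -/
noncomputable def UVData.M (D : UVData Δ S) : Ideal S := RingHom.ker (D.psi hΔ)

theorem UVData.isPrime_M (D : UVData Δ S) : (D.M hΔ).IsPrime := RingHom.ker_isPrime _

theorem UVData.psi_v (D : UVData Δ S) : D.psi hΔ D.v = PowerSeries.X := by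
  simp [UVData.psi, D.φu_v]

theorem UVData.psi_u (D : UVData Δ S) : D.psi hΔ D.u = 0 := by simp [UVData.psi, D.φu_u]

theorem UVData.psi_C (D : UVData Δ S) (c : R) :
    D.psi hΔ (algebraMap R S c) = PowerSeries.C (residue R c) := by
  simp [UVData.psi, D.φu_C, res]

theorem UVData.v_notMem (D : UVData Δ S) : D.v ∉ D.M hΔ := fun h => by
  rw [UVData.M, RingHom.mem_ker, D.psi_v] at h
  exact PowerSeries.X_ne_zero h

theorem UVData.u_mem (D : UVData Δ S) : D.u ∈ D.M hΔ := D.psi_u hΔ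

theorem UVData.map_le_M (D : UVData Δ S) : (maximalIdeal R).map (algebraMap R S) ≤ D.M hΔ :=
  Ideal.map_le_iff_le_comap.mpr fun c hc => by
    simp [UVData.M, RingHom.mem_ker, D.psi_C, (residue_eq_zero_iff c).mpr hc]

theorem UVData.M_le (D : UVData Δ S) [IsNoetherianRing R] :
    D.M hΔ ≤ (maximalIdeal R).map (algebraMap R S) ⊔ Ideal.span {D.u} := by
  classical
  intro x hx
  obtain ⟨s, hs⟩ := IsNoetherian.noetherian (maximalIdeal R)
  have hcoef : ∀ i, ∃ b : s → R, PowerSeries.coeff i (D.φu x) =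
      Ideal.Quotient.mk _ (∑ g : s, b g * (g : R)) := by
    intro i
    obtain ⟨c, hc⟩ := Ideal.Quotient.mk_surjective (PowerSeries.coeff i (D.φu x))
    have h0 : residue R c = 0 := by
      have := congrArg (PowerSeries.coeff i) hx
      simpa [UVData.psi, PowerSeries.coeff_map, ← hc, res] using this
    rw [residue_eq_zero_iff, ← hs, Submodule.mem_span_finset'] at h0
    obtain ⟨b, hb⟩ := h0
    exact ⟨b, by rw [← hc]; simpa using congrArg (Ideal.Quotient.mk (Ideal.span {Δ})) hb.symm⟩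
  choose b hb using hcoef
  choose y hy using fun g : s => D.surj_u (PowerSeries.mk fun i => Ideal.Quotient.mk _ (b i g))
  have hφ : D.φu (x - ∑ g : s, algebraMap R S g * y g) = 0 := by
    rw [map_sub, sub_eq_zero, map_sum]
    ext i
    simp [map_sum, map_mul, D.φu_C, hy, hb, PowerSeries.coeff_C_mul, mul_comm]
  obtain ⟨z, hz⟩ := D.ker_u _ hφ
  rw [show x = (∑ g : s, algebraMap R S g * y g) + D.u * z by rw [← hz]; ring]
  refine Submodule.add_mem_sup (Ideal.sum_mem _ fun g _ => Ideal.mul_mem_right _ _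
    (Ideal.mem_map_of_mem _ ?_)) (Ideal.mem_span_singleton'.mpr ⟨z, mul_comm _ _⟩)
  exact hs.le (Submodule.subset_span g.2)

variable [IsLocalRing S]

theorem UVData.isUnit_of_isUnit (D : UVData Δ S) (hΔ : Δ ∈ maximalIdeal R) {x : S}
    (hx : IsUnit (D.φu x)) : IsUnit x := by
  haveI := nontrivial_bar hΔ
  haveI : Nontrivial (PowerSeries (R ⧸ Ideal.span {Δ})) := inferInstance
  haveI := IsLocalRing.of_surjective' D.φu D.surj_u
  haveI : IsLocalHom D.φu := IsLocalHom.of_surjective D.φu D.surj_u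
  exact (isUnit_map_iff D.φu x).mp hx

theorem UVData.u_nonunit (D : UVData Δ S) (hΔ : Δ ∈ maximalIdeal R) : ¬ IsUnit D.u := fun h => by
  have := h.map (D.psi hΔ)
  rw [D.psi_u] at this
  exact not_isUnit_zero this

theorem UVData.v_nonunit (D : UVData Δ S) (hΔ : Δ ∈ maximalIdeal R) : ¬ IsUnit D.v := D.swap.u_nonunit hΔ

theorem UVData.map_le_maximal (D : UVData Δ S) (hΔ : Δ ∈ maximalIdeal R) :
    (maximalIdeal R).map (algebraMap R S) ≤ maximalIdeal S :=
  (D.map_le_M hΔ).trans (le_maximalIdeal (D.isPrime_M hΔ).ne_top)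

theorem UVData.maximal_le (D : UVData Δ S) (hΔ : Δ ∈ maximalIdeal R) :
    maximalIdeal S ≤ (maximalIdeal R).map (algebraMap R S) ⊔ Ideal.span {D.u, D.v} := by
  intro x hx
  obtain ⟨c, hc⟩ := Ideal.Quotient.mk_surjective (PowerSeries.constantCoeff (D.φu x))
  have hc' : c ∈ maximalIdeal R := by
    intro hu
    refine hx (D.isUnit_of_isUnit hΔ (PowerSeries.isUnit_iff_constantCoeff.mpr ?_))
    rw [← hc]
    exact hu.map _
  have h0 : PowerSeries.constantCoeff (D.φu x - PowerSeries.C (Ideal.Quotient.mk _ c)) = 0 := by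
    simp [hc]
  obtain ⟨r, hr⟩ := PowerSeries.X_dvd_iff.mpr h0
  obtain ⟨y, rfl⟩ := D.surj_u r
  obtain ⟨z, hz⟩ := D.ker_u (x - algebraMap R S c - D.v * y) (by
    rw [map_sub, map_sub, map_mul, D.φu_C, D.φu_v, hr, sub_self])
  rw [show x = algebraMap R S c + (D.u * z + D.v * y) by rw [← hz]; ring]
  refine Submodule.add_mem_sup (Ideal.mem_map_of_mem _ hc') ?_
  exact Ideal.add_mem _ (Ideal.mul_mem_right _ _ (Ideal.subset_span (by simp)))
    (Ideal.mul_mem_right _ _ (Ideal.subset_span (by simp)))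

end Groth.Agent.UVD13201
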