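import Groth.Agent.UVD13201.Good

/-!
# Factoriality of `R[[u,v]]/(uv - Δ)` for `Δ` prime
-/

set_option autoImplicit false
universe u

namespace Groth.Agent.UVD13201

open IsLocalRing

variable {R : Type u} [CommRing R] [IsRegularLocalRing R] {Δ : R} {S : Type u} [CommRing S] [Algebra R S]

theorem UVData.height_M_ge (D : UVData Δ S) [IsDomain S] (hP : Prime Δ) (hΔ : Δ ∈ maximalIdeal R) :
    ringKrullDim R ≤ ((D.M hΔ).height : WithBot ℕ∞) := by
  haveI := nontrivial_bar hΔ
  haveI : IsLocalRing (R ⧸ Ideal.span {Δ}) := IsLocalRing.of_surjective' _ Ideal.Quotient.mk_surjective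
  haveI := D.isPrime_M hΔ
  let P : PrimeSpectrum (R ⧸ Ideal.span {Δ}) → PrimeSpectrum S := fun q =>
    ⟨RingHom.ker ((PowerSeries.map (Ideal.Quotient.mk q.asIdeal)).comp D.φu), RingHom.ker_isPrime _⟩
  have hmem : ∀ q x, x ∈ (P q).asIdeal ↔ ∀ i, PowerSeries.coeff i (D.φu x) ∈ q.asIdeal := by
    intro q x
    simp only [P, RingHom.mem_ker, RingHom.comp_apply, PowerSeries.ext_iff, PowerSeries.coeff_map,
      map_zero, Ideal.Quotient.eq_zero_iff_mem]
  have hle : ∀ q q' : PrimeSpectrum (R ⧸ Ideal.span {Δ}), P q ≤ P q' ↔ q ≤ q' := by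
    intro q q'
    refine ⟨fun h a ha => ?_, fun h x hx => ?_⟩
    · obtain ⟨c, rfl⟩ := Ideal.Quotient.mk_surjective a
      have h1 : algebraMap R S c ∈ (P q).asIdeal := by
        rw [hmem]
        intro i
        rw [D.φu_C, PowerSeries.coeff_C]
        split
        · exact ha
        · exact zero_mem _
      have := (hmem q' _).mp (h h1) 0
      simpa [D.φu_C] using this
    · rw [hmem] at hx ⊢
      exact fun i => h (hx i)
  let f : WithBot (PrimeSpectrum (R ⧸ Ideal.span {Δ})) → PrimeSpectrum S :=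
    WithBot.recBotCoe ⟨⊥, Ideal.isPrime_bot⟩ P
  have hu0 : D.u ≠ 0 := fun h => by
    have := D.φv_u
    rw [h, map_zero] at this
    exact PowerSeries.X_ne_zero this.symm
  have hbot : ∀ q, (⟨⊥, Ideal.isPrime_bot⟩ : PrimeSpectrum S) < P q := fun q => by
    refine lt_of_le_of_ne (bot_le (a := (P q).asIdeal)) fun h => hu0 ?_
    have h1 : D.u ∈ (P q).asIdeal := (hmem q _).mpr fun i => by simp [D.φu_u]
    rw [← h] at h1
    simpa using h1
  have hf : StrictMono f := by
    intro a b hab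
    induction b using WithBot.recBotCoe with
    | bot => exact absurd hab not_lt_bot
    | coe b =>
      induction a using WithBot.recBotCoe with
      | bot => exact hbot b
      | coe a =>
        rw [WithBot.coe_lt_coe, lt_iff_le_not_ge] at hab
        exact lt_iff_le_not_ge.mpr ⟨(hle a b).mpr hab.1, fun h => hab.2 ((hle b a).mp h)⟩
  have htop : P (closedPoint (R ⧸ Ideal.span {Δ})) ≤ (⟨D.M hΔ, D.isPrime_M hΔ⟩ : PrimeSpectrum S) := by
    intro x hx
    rw [hmem] at hx
    show D.psi hΔ x = 0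
    ext i
    simp only [UVData.psi, RingHom.comp_apply, PowerSeries.coeff_map, map_zero]
    obtain ⟨d, hd⟩ := Ideal.Quotient.mk_surjective (PowerSeries.coeff i (D.φu x))
    rw [← hd, res, Ideal.Quotient.lift_mk, residue_eq_zero_iff]
    intro hu
    have := hx i
    rw [← hd] at this
    exact this (hu.map _)
  have h1 := (Order.height_le_height_apply_of_strictMono f hf ↑(closedPoint (R ⧸ Ideal.span {Δ}))).trans
    (Order.height_mono htop)
  rw [Order.height_coe_withBot] at h1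
  have h2 := ringKrullDim_le_ringKrullDim_quotient_add_encard {Δ}
    (Set.singleton_subset_iff.mpr (by rw [ringJacobson_eq_maximalIdeal]; exact hΔ))
  rw [Set.encard_singleton, ← maximalIdeal_height_eq_ringKrullDim (R := R ⧸ Ideal.span {Δ})] at h2
  refine h2.trans ?_
  rw [show maximalIdeal (R ⧸ Ideal.span {Δ}) = (closedPoint (R ⧸ Ideal.span {Δ})).asIdeal from rfl,
    PrimeSpectrum.height_eq_orderHeight, show D.M hΔ = (⟨D.M hΔ, D.isPrime_M hΔ⟩ : PrimeSpectrum S).asIdeal from rfl,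
    PrimeSpectrum.height_eq_orderHeight]
  exact_mod_cast h1

variable [IsNoetherianRing S] [IsLocalRing S]

theorem UVData.isRegularLocalRing_atM (D : UVData Δ S) [IsDomain S] (hP : Prime Δ) (hΔ : Δ ∈ maximalIdeal R) :
    haveI := D.isPrime_M hΔ
    IsRegularLocalRing (Localization.AtPrime (D.M hΔ)) := by
  haveI := D.isPrime_M hΔ
  classical
  set T := Localization.AtPrime (D.M hΔ)
  haveI : IsNoetherianRing T := IsLocalization.isNoetherianRing (D.M hΔ).primeCompl _ inferInstance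
  have hmax : maximalIdeal T = ((maximalIdeal R).map (algebraMap R S)).map (algebraMap S T) := by
    refine le_antisymm ?_ ?_
    · rw [← Localization.AtPrime.map_eq_maximalIdeal]
      refine (Ideal.map_mono (D.M_le hΔ)).trans ?_
      rw [Ideal.map_sup, sup_le_iff, Ideal.map_span, Set.image_singleton, Ideal.span_singleton_le_iff_mem]
      refine ⟨le_rfl, ?_⟩
      have hv : IsUnit (algebraMap S T D.v) := IsLocalization.map_units T (⟨D.v, D.v_notMem hΔ⟩ : (D.M hΔ).primeCompl)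
      rw [← Ideal.mul_unit_mem_iff_mem _ hv, ← map_mul, D.mul]
      exact Ideal.mem_map_of_mem _ (Ideal.mem_map_of_mem _ hΔ)
    · rw [← Localization.AtPrime.map_eq_maximalIdeal]
      exact Ideal.map_mono (D.map_le_M hΔ)
  refine IsRegularLocalRing.of_spanFinrank_maximalIdeal_le T (le_trans ?_ ((D.height_M_ge hP hΔ).trans
    (IsLocalization.AtPrime.ringKrullDim_eq_height (D.M hΔ) T).ge))
  rw [← IsRegularLocalRing.spanFinrank_maximalIdeal (R := R), hmax, Ideal.map_map]
  obtain ⟨s, hcard, hs⟩ := (IsNoetherian.noetherian (maximalIdeal R)).exists_span_finset_card_eq_spanFinrank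
  have h3 : ((maximalIdeal R).map ((algebraMap S T).comp (algebraMap R S))).spanFinrank ≤
      (maximalIdeal R).spanFinrank := by
    conv_lhs => rw [← hs]
    rw [← Ideal.span, Ideal.map_span, ← hcard]
    exact (Submodule.spanFinrank_span_le_ncard_of_finite (s.finite_toSet.image _)).trans
      ((Set.ncard_image_le s.finite_toSet).trans (Set.ncard_coe_finset s).le)
  exact_mod_cast h3

/-- a height-one prime is principal at `(m,u)` -/
theorem UVData.exists_bad (D : UVData Δ S) [IsDomain S] (hP : Prime Δ) (hΔ : Δ ∈ maximalIdeal R)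
    {P : Ideal S} [P.IsPrime] {f : S} (hf0 : f ≠ 0) (hmin : P ∈ (Ideal.span {f}).minimalPrimes) :
    ∃ N : Ideal S, ¬ P ≤ N ∧ ∀ h ∈ P, h ∉ N → ∀ x ∈ P, ∃ s ∉ D.M hΔ, h ∣ s * x := by
  haveI := D.isPrime_M hΔ
  set T := Localization.AtPrime (D.M hΔ)
  haveI := D.isRegularLocalRing_atM hP hΔ
  haveI : IsDomain T := IsLocalization.isDomain_localization (D.M hΔ).primeCompl_le_nonZeroDivisors
  haveI : UniqueFactorizationMonoid T := RegLoc.UFD.uniqueFactorizationMonoid T
  have hfP : f ∈ P := hmin.1.2 (Ideal.mem_span_singleton_self f)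
  have hinj : Function.Injective (algebraMap S T) :=
    IsLocalization.injective T (D.M hΔ).primeCompl_le_nonZeroDivisors
  set PT := P.map (algebraMap S T) with hPT
  have hprinc : ∃ g, PT = Ideal.span {g} := by
    by_cases hd : Disjoint ((D.M hΔ).primeCompl : Set S) P
    · have hp : PT.IsPrime :=
        IsLocalization.isPrime_of_isPrime_disjoint (D.M hΔ).primeCompl T P inferInstance hd
      have hne : algebraMap S T f ≠ 0 := fun h => hf0 (hinj (by rw [h, map_zero]))
      obtain ⟨F, hF, w, hw⟩ := UniqueFactorizationMonoid.exists_prime_factors _ hne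
      have hmem : F.prod * ↑w ∈ PT := hw ▸ Ideal.mem_map_of_mem _ hfP
      have hmem' : F.prod ∈ PT := (Ideal.mul_unit_mem_iff_mem _ w.isUnit).mp hmem
      obtain ⟨π, hπ, hπP⟩ := (hp.multiset_prod_mem_iff_exists_mem F).mp hmem'
      refine ⟨π, le_antisymm ?_ ((Ideal.span_singleton_le_iff_mem _).mpr hπP)⟩
      haveI hπp : (Ideal.span {π}).IsPrime := (Ideal.span_singleton_prime (hF π hπ).ne_zero).mpr (hF π hπ)
      have hcomap : PT.comap (algebraMap S T) = P :=
        IsLocalization.comap_map_of_isPrime_disjoint (D.M hΔ).primeCompl T inferInstance hd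
      have hle : (Ideal.span {π}).comap (algebraMap S T) ≤ P := by
        rw [← hcomap]
        exact Ideal.comap_mono ((Ideal.span_singleton_le_iff_mem _).mpr hπP)
      refine Ideal.map_le_iff_le_comap.mpr (hmin.2 ⟨Ideal.IsPrime.comap _, ?_⟩ hle)
      rw [Ideal.span_singleton_le_iff_mem, Ideal.mem_comap, Ideal.mem_span_singleton, ← hw]
      exact Dvd.dvd.mul_right (Multiset.dvd_prod hπ) _
    · obtain ⟨s, hs, hsP⟩ := Set.not_disjoint_iff.mp hd
      refine ⟨1, ?_⟩
      rw [Ideal.span_singleton_one]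
      exact Ideal.eq_top_of_isUnit_mem _ (Ideal.mem_map_of_mem _ hsP)
        (IsLocalization.map_units T ⟨s, hs⟩)
  obtain ⟨g, hg⟩ := hprinc
  refine ⟨(maximalIdeal T * PT).comap (algebraMap S T), fun hle => ?_, fun h hh hN x hx => ?_⟩
  · have h1 : PT ≤ maximalIdeal T * PT := Ideal.map_le_iff_le_comap.mpr hle
    have h2 := Submodule.eq_bot_of_le_smul_of_le_jacobson_bot (maximalIdeal T) PT (IsNoetherian.noetherian _)
      h1 (maximalIdeal_le_jacobson _)
    refine hf0 (hinj ?_)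
    rw [map_zero]
    have h4 := Ideal.mem_map_of_mem (algebraMap S T) hfP
    rw [← hPT, h2] at h4
    exact h4
  · have hh' : algebraMap S T h ∈ PT := Ideal.mem_map_of_mem _ hh
    rw [hg] at hh'
    obtain ⟨c, hc⟩ := Ideal.mem_span_singleton'.mp hh'
    have hcu : IsUnit c := by
      by_contra hcu
      refine hN ?_
      rw [Ideal.mem_comap, ← hc, hg]
      exact Ideal.mul_mem_mul hcu (Ideal.mem_span_singleton_self g)
    have hmem : algebraMap S T x ∈ (Ideal.span {h}).map (algebraMap S T) := by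
      rw [Ideal.map_span, Set.image_singleton, ← hc, Ideal.span_singleton_mul_left_unit hcu, ← hg]
      exact Ideal.mem_map_of_mem _ hx
    obtain ⟨⟨⟨a, ha⟩, ⟨s, hs⟩⟩, heq⟩ :=
      (IsLocalization.mem_map_algebraMap_iff (D.M hΔ).primeCompl T).mp hmem
    refine ⟨s, hs, ?_⟩
    obtain ⟨y, hy⟩ := Ideal.mem_span_singleton'.mp ha
    exact ⟨y, hinj (by rw [map_mul, mul_comm, heq, mul_comm h]; exact congrArg _ hy.symm)⟩

theorem UVData.prime_of_irreducible_of_mem (D : UVData Δ S) [IsDomain S]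
    (hP : Prime Δ) (hΔ : Δ ∈ maximalIdeal R) [IsAdicComplete (maximalIdeal R) R]
    {f : S} (hf : Irreducible f) (hfM : f ∈ D.M hΔ) : Prime f := by
  haveI : IsDomain R := RegLoc.isDomain R
  haveI : UniqueFactorizationMonoid R := RegLoc.UFD.uniqueFactorizationMonoid R
  haveI := D.isPrime_M hΔ
  haveI := D.swap.isPrime_M hΔ
  obtain ⟨P, hmin, hPM⟩ := Ideal.exists_minimalPrimes_le ((Ideal.span_singleton_le_iff_mem _).mpr hfM)
  haveI : P.IsPrime := hmin.1.1
  have hfP : f ∈ P := hmin.1.2 (Ideal.mem_span_singleton_self f)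
  obtain ⟨N, hN, hN'⟩ := D.exists_bad hP hΔ hf.ne_zero hmin
  obtain ⟨N₂, hN₂, hN₂'⟩ := D.swap.exists_bad hP hΔ hf.ne_zero hmin
  obtain ⟨h, hhP, hh⟩ : ∃ h ∈ P, h ∉ N ∧ h ∉ N₂ := by
    by_contra! hcon
    have hsub : (P : Set S) ⊆ N ∪ N₂ := fun x hx => or_iff_not_imp_left.mpr (hcon x hx)
    exact (Ideal.subset_union.mp hsub).elim hN hN₂
  let Cov : S → Prop := fun h => ∀ x ∈ P, ∃ s, s ∉ D.M hΔ ∧ s ∉ D.swap.M hΔ ∧ h ∣ s * x
  have hcov : Cov h := by
    intro x hx
    obtain ⟨s, hs, hsd⟩ := hN' h hhP hh.1 x hx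
    obtain ⟨s', hs', hsd'⟩ := hN₂' h hhP hh.2 x hx
    by_contra! hcon
    let J : Ideal S := Submodule.comap (LinearMap.mulRight S x) (Ideal.span {h})
    have hJ : ∀ a, a ∈ J ↔ h ∣ a * x := fun a => by simp [J, Ideal.mem_span_singleton]
    have hsub : (J : Set S) ⊆ (D.M hΔ : Ideal S) ∪ (D.swap.M hΔ : Ideal S) := fun a ha => by
      refine or_iff_not_imp_left.mpr fun h1 => ?_
      by_contra h2
      exact hcon a h1 h2 ((hJ a).mp ha)
    rcases Ideal.subset_union.mp hsub with h1 | h1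
    · exact hs (h1 ((hJ s).mpr hsd))
    · exact hs' (h1 ((hJ s').mpr hsd'))
  -- choose a cover without good prime divisors
  have hnoPrime : ∀ h : S, h ≠ 0 → h ∈ P → Cov h → ∃ h' ∈ P, Cov h' ∧
      ∀ p, Prime p → p ∣ h' → p ∈ D.M hΔ ∨ p ∈ D.swap.M hΔ := by
    intro h
    induction h using WellFounded.induction
      (IsWellFounded.wf : WellFounded (DvdNotUnit : S → S → Prop)) with
    | h h ih =>
      intro h0 hhP hcov
      by_cases hex : ∃ p, Prime p ∧ p ∣ h ∧ p ∉ D.M hΔ ∧ p ∉ D.swap.M hΔ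
      · obtain ⟨p, hp, ⟨h', rfl⟩, hp1, hp2⟩ := hex
        have h'0 : h' ≠ 0 := right_ne_zero_of_mul h0
        refine ih h' ⟨h'0, p, hp.not_unit, mul_comm _ _⟩ h'0
          ((Ideal.IsPrime.mem_or_mem ‹_› hhP).resolve_left fun hpP => hp1 (hPM hpP)) fun x hx => ?_
        obtain ⟨s, h1, h2, h3⟩ := hcov x hx
        exact ⟨s, h1, h2, dvd_trans (dvd_mul_left h' p) h3⟩
      · refine ⟨h, hhP, hcov, fun p hp hpd => ?_⟩
        by_contra! hcon
        exact hex ⟨p, hp, hpd, hcon⟩
  have hh0 : h ≠ 0 := fun h0 => hh.1 (h0 ▸ zero_mem _)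
  obtain ⟨h₀, hh₀P, hcov₀, hno⟩ := hnoPrime h hh0 hhP hcov
  have hcancel : ∀ s : S, ∀ x, s ∉ D.M hΔ → s ∉ D.swap.M hΔ → h₀ ∣ s * x → h₀ ∣ x := by
    intro s
    induction s using WellFounded.induction
      (IsWellFounded.wf : WellFounded (DvdNotUnit : S → S → Prop)) with
    | h s ih =>
      intro x h1 h2 hd
      by_cases hu : IsUnit s
      · exact (IsUnit.dvd_mul_left hu).mp hd
      obtain ⟨p, hp, ⟨s', rfl⟩⟩ := D.exists_prime_dvd hP hΔ h1 h2 hu
      have hs'1 : s' ∉ D.M hΔ := fun h => h1 (Ideal.mul_mem_left _ _ h)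
      have hs'2 : s' ∉ D.swap.M hΔ := fun h => h2 (Ideal.mul_mem_left _ _ h)
      have hp1 : p ∉ D.M hΔ := fun h => h1 (Ideal.mul_mem_right _ _ h)
      have hp2 : p ∉ D.swap.M hΔ := fun h => h2 (Ideal.mul_mem_right _ _ h)
      refine ih s' ⟨fun h => hs'1 (h ▸ zero_mem _), p, hp.not_unit, mul_comm _ _⟩ x hs'1 hs'2 ?_
      obtain ⟨y, hy⟩ := hd
      obtain ⟨z, rfl⟩ : p ∣ y := ((hp.dvd_or_dvd ⟨s' * x, by rw [← hy]; ring⟩).resolve_left
        fun hpd => (hno p hp hpd).elim hp1 hp2)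
      exact ⟨z, mul_left_cancel₀ hp.ne_zero (by linear_combination hy)⟩
  have hPeq : P = Ideal.span {h₀} := by
    refine le_antisymm (fun x hx => ?_) ((Ideal.span_singleton_le_iff_mem _).mpr hh₀P)
    obtain ⟨s, h1, h2, h3⟩ := hcov₀ x hx
    exact Ideal.mem_span_singleton.mpr (hcancel s x h1 h2 h3)
  have h00 : h₀ ≠ 0 := fun h0 => hf.ne_zero (by rw [hPeq, h0] at hfP; simpa using hfP)
  have hprime : Prime h₀ := (Ideal.span_singleton_prime h00).mp (hPeq ▸ ‹P.IsPrime›)
  exact ((hprime.irreducible.dvd_symm hf (Ideal.mem_span_singleton.mp (hPeq ▸ hfP))) |>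
    fun hd => (associated_of_dvd_dvd (Ideal.mem_span_singleton.mp (hPeq ▸ hfP)) hd).prime hprime)

theorem UVData.ufd (D : UVData Δ S) [IsDomain S]
    (hP : Prime Δ) (hΔ : Δ ∈ maximalIdeal R) [IsAdicComplete (maximalIdeal R) R] :
    UniqueFactorizationMonoid S := by
  haveI : IsDomain R := RegLoc.isDomain R
  haveI : UniqueFactorizationMonoid R := RegLoc.UFD.uniqueFactorizationMonoid R
  refine { irreducible_iff_prime := ⟨fun hf => ?_, Prime.irreducible⟩ }
  rename_i f
  by_cases h1 : f ∈ D.M hΔ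
  · exact D.prime_of_irreducible_of_mem hP hΔ hf h1
  by_cases h2 : f ∈ D.swap.M hΔ
  · exact D.swap.prime_of_irreducible_of_mem hP hΔ hf h2
  obtain ⟨g, hg, hgd⟩ := D.exists_prime_dvd hP hΔ h1 h2 hf.not_isUnit
  exact (associated_of_dvd_dvd hgd (hg.irreducible.dvd_symm hf hgd)).prime hg

end Groth.Agent.UVD13201
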