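import Groth.Agent.UVD13201.Basic

/-!
# Elements outside `(m,u)` and `(m,v)` are products of primes
-/

set_option autoImplicit false
universe u

namespace Groth.Agent.UVD13201

open IsLocalRing

variable {R : Type u} [CommRing R] [IsLocalRing R] {Δ : R} {S : Type u} [CommRing S] [Algebra R S]

theorem isPrime_span_bar (hP : Prime Δ) : (Ideal.span {Δ}).IsPrime :=
  (Ideal.span_singleton_prime hP.ne_zero).mpr hP

theorem UVData.prime_u (D : UVData Δ S) (hP : Prime Δ) (hΔ : Δ ∈ maximalIdeal R) : Prime D.u := by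
  haveI := isPrime_span_bar hP
  refine ⟨fun h => ?_, fun h => ?_, fun a b hab => ?_⟩
  · have := D.φv_u
    rw [h, map_zero] at this
    exact PowerSeries.X_ne_zero this.symm
  · have := h.map D.φu
    rw [D.φu_u] at this
    exact not_isUnit_zero this
  · obtain ⟨c, hc⟩ := hab
    have : D.φu a * D.φu b = 0 := by rw [← map_mul, hc, map_mul, D.φu_u, zero_mul]
    exact (mul_eq_zero.mp this).imp (D.ker_u a) (D.ker_u b)

theorem UVData.isDomain (D : UVData Δ S) [IsLocalRing S] [IsNoetherianRing S]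
    (hP : Prime Δ) (hΔ : Δ ∈ maximalIdeal R) : IsDomain S := by
  have hu := D.prime_u hP hΔ
  have hne : Ideal.span {D.u} ≠ ⊤ := by
    simpa [Ideal.span_singleton_eq_top] using hu.not_unit
  have key : ∀ x : S, x ≠ 0 → ∃ k y, x = D.u ^ k * y ∧ ¬ D.u ∣ y := by
    classical
    intro x hx
    have : ∃ k, ¬ D.u ^ k ∣ x := by
      by_contra! h
      refine hx ?_
      have := Ideal.iInf_pow_eq_bot_of_isLocalRing _ hne
      rw [← Submodule.mem_bot (R := S), ← this]
      simp only [Submodule.mem_iInf, Ideal.span_singleton_pow, Ideal.mem_span_singleton]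
      exact h
    obtain ⟨k, hk⟩ := Nat.exists_eq_add_one_of_ne_zero (n := Nat.find this) (fun h0 => by
      have := Nat.find_spec this
      rw [h0, pow_zero] at this
      exact this (one_dvd _))
    obtain ⟨y, hy⟩ := not_not.mp (Nat.find_min this (m := k) (by omega))
    refine ⟨k, y, hy, fun ⟨z, hz⟩ => ?_⟩
    have := Nat.find_spec this
    rw [hk] at this
    exact this ⟨z, by rw [hy, hz, pow_succ, mul_assoc]⟩
  haveI : NoZeroDivisors S := by
    refine ⟨fun {x y} hxy => ?_⟩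
    by_contra! h
    obtain ⟨k, x', rfl, hx'⟩ := key x h.1
    obtain ⟨l, y', rfl, hy'⟩ := key y h.2
    have h0 : x' * y' = 0 := by
      have hreg : ∀ (n : ℕ) (z : S), D.u ^ n * z = 0 → z = 0 := by
        intro n
        induction n with
        | zero => intro z hz; simpa using hz
        | succ n ih => intro z hz; exact D.reg_u z (ih _ (by rw [← mul_assoc, ← pow_succ, hz]))
      exact hreg (k + l) _ (by rw [← hxy, pow_add]; ring)
    rcases hu.dvd_or_dvd (show D.u ∣ x' * y' by rw [h0]; exact dvd_zero _) with h1 | h1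
    exacts [hx' h1, hy' h1]
  exact NoZeroDivisors.to_isDomain S

/-- complete modules: finite free modules are precomplete -/
theorem isPrecomplete_pi {A : Type*} [CommRing A] (I : Ideal A) [IsPrecomplete I A] (ι : Type*)
    [Fintype ι] [DecidableEq ι] : IsPrecomplete I (ι → A) := by
  refine ⟨fun f hf => ?_⟩
  have : ∀ i, ∃ L, ∀ n, f n i ≡ L [SMOD (I ^ n • ⊤ : Submodule A A)] := fun i =>
    IsPrecomplete.prec ‹_› (f := fun n => f n i) fun {m n} hmn => by
      have h := SModEq.sub_mem.mp (hf hmn)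
      rw [SModEq.sub_mem]
      exact (Submodule.smul_top_le_comap_smul_top (I ^ m) (LinearMap.proj i)) h
  choose L hL using this
  refine ⟨L, fun n => SModEq.sub_mem.mpr ?_⟩
  rw [pi_eq_sum_univ (f n - L)]
  refine Submodule.sum_mem _ fun i _ => Submodule.smul_mem_smul ?_ trivial
  simpa [SModEq.sub_mem, Ideal.mul_top] using hL i n

variable [IsNoetherianRing R]

theorem UVData.exists_pow_v_mem (D : UVData Δ S) (hΔ : Δ ∈ maximalIdeal R) {s : S}
    (hs : s ∉ D.M hΔ) :
    ∃ a, D.v ^ a ∈ (maximalIdeal R).map (algebraMap R S) ⊔ Ideal.span {s} := by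
  have hne : D.psi hΔ s ≠ 0 := hs
  obtain ⟨w, hw⟩ : ∃ w, D.psi hΔ s * w = PowerSeries.X ^ (D.psi hΔ s).order.toNat := by
    refine ⟨(↑(PowerSeries.Unit_of_divided_by_X_pow_order (D.psi hΔ s))⁻¹ : PowerSeries _), ?_⟩
    have h1 : PowerSeries.X ^ (D.psi hΔ s).order.toNat *
        (↑(PowerSeries.Unit_of_divided_by_X_pow_order (D.psi hΔ s)) : PowerSeries _) = D.psi hΔ s := by
      rw [PowerSeries.Unit_of_divided_by_X_pow_order_nonzero hne]
      exact PowerSeries.X_pow_order_mul_divXPowOrder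
    exact (Units.mul_inv_eq_iff_eq_mul _).mpr h1.symm
  obtain ⟨w', rfl⟩ : ∃ w', D.psi hΔ w' = w := by
    obtain ⟨g, hg⟩ := (PowerSeries.map_surjective (res hΔ) (fun r => by
      obtain ⟨c, rfl⟩ := residue_surjective r
      exact ⟨Ideal.Quotient.mk _ c, rfl⟩)) w
    obtain ⟨w', rfl⟩ := D.surj_u g
    exact ⟨w', hg⟩
  set n := (D.psi hΔ s).order.toNat
  have hmem : D.v ^ n - s * w' ∈ D.M hΔ := by
    rw [UVData.M, RingHom.mem_ker, map_sub, map_pow, D.psi_v, map_mul, hw, sub_self]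
  obtain ⟨p, hp, q, hq, hpq⟩ := Submodule.mem_sup.mp (D.M_le hΔ hmem)
  obtain ⟨z, rfl⟩ := Ideal.mem_span_singleton'.mp hq
  refine ⟨n + 1, ?_⟩
  rw [show D.v ^ (n + 1) = (D.v * p + algebraMap R S Δ * z) + s * (w' * D.v) by
    linear_combination -D.v * hpq + z * D.mul]
  exact Submodule.add_mem_sup (Ideal.add_mem _ (Ideal.mul_mem_left _ _ hp)
    (Ideal.mul_mem_right _ _ (Ideal.mem_map_of_mem _ hΔ))) (Ideal.mem_span_singleton'.mpr ⟨w' * D.v, mul_comm _ _⟩)

theorem UVData.exists_pow_mem (D : UVData Δ S) (hΔ : Δ ∈ maximalIdeal R) {s : S}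
    (hs : s ∉ D.M hΔ) (hs' : s ∉ D.swap.M hΔ) :
    ∃ e, 1 ≤ e ∧ D.u ^ e ∈ (maximalIdeal R).map (algebraMap R S) ⊔ Ideal.span {s} ∧
      D.v ^ e ∈ (maximalIdeal R).map (algebraMap R S) ⊔ Ideal.span {s} := by
  obtain ⟨a, ha⟩ := D.exists_pow_v_mem hΔ hs
  obtain ⟨b, hb⟩ := D.swap.exists_pow_v_mem hΔ hs'
  refine ⟨a + b + 1, by omega, Ideal.pow_mem_of_pow_mem _ hb (by omega), Ideal.pow_mem_of_pow_mem _ ha (by omega)⟩

variable [IsLocalRing S] [IsNoetherianRing S] [IsAdicComplete (maximalIdeal R) R]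

theorem UVData.finite_quotient (D : UVData Δ S) (hΔ : Δ ∈ maximalIdeal R) (I : Ideal S) (hI : I ≠ ⊤) (e : ℕ)
    (he : D.u ^ e ∈ (maximalIdeal R).map (algebraMap R S) ⊔ I)
    (he' : D.v ^ e ∈ (maximalIdeal R).map (algebraMap R S) ⊔ I) :
    Module.Finite R (S ⧸ I) ∧ ∀ x : S, ∃ a ∈ Algebra.adjoin R {D.u, D.v}, x - a ∈ I := by
  classical
  let mon : Fin e × Fin e → S := fun p => D.u ^ (p.1 : ℕ) * D.v ^ (p.2 : ℕ)
  let f : (Fin e × Fin e → R) →ₗ[R] S ⧸ I :=
    (Ideal.Quotient.mkₐ R I).toLinearMap.comp (Fintype.linearCombination R mon)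
  have hf : Function.Surjective f := by
    haveI : IsPrecomplete (maximalIdeal R) (Fin e × Fin e → R) := isPrecomplete_pi _ _
    haveI : Module.Finite S (S ⧸ I) := inferInstance
    haveI : IsHausdorff (maximalIdeal S) (S ⧸ I) := inferInstance
    haveI : IsHausdorff (maximalIdeal R) (S ⧸ I) := IsHausdorff.of_map (D.map_le_maximal hΔ)
    refine surjective_of_mkQ_comp_surjective (I := maximalIdeal R) fun y => ?_
    let T : Submodule R S :=
      Submodule.span R (Set.range mon) ⊔ ((maximalIdeal R).map (algebraMap R S) ⊔ I).restrictScalars R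
    have hT : ∀ x : S, x ∈ T := by
      intro x
      obtain ⟨a, ha, hxa⟩ := D.dense x (e + e)
      rw [show x = a + (x - a) by ring]
      refine add_mem ?_ (Submodule.mem_sup_right ?_)
      · rw [← Subalgebra.mem_toSubmodule, Algebra.adjoin_eq_span] at ha
        refine Submodule.span_le.mpr (fun z hz => ?_) ha
        obtain ⟨i, j, rfl⟩ := (Submonoid.mem_closure_pair ..).mp hz
        by_cases h : i < e ∧ j < e
        · exact Submodule.mem_sup_left (Submodule.subset_span ⟨(⟨i, h.1⟩, ⟨j, h.2⟩), rfl⟩)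
        · refine Submodule.mem_sup_right ?_
          rcases not_and_or.mp h with h | h
          · exact Ideal.mul_mem_right _ _ (Ideal.pow_mem_of_pow_mem _ he (not_lt.mp h))
          · exact Ideal.mul_mem_left _ _ (Ideal.pow_mem_of_pow_mem _ he' (not_lt.mp h))
      · rw [Submodule.restrictScalars_mem]
        rw [Ideal.span_insert] at hxa
        refine (sup_le ?_ ?_ : Ideal.span {D.u} ^ e ⊔ Ideal.span {D.v} ^ e ≤ _)
          (Ideal.sup_pow_add_le_pow_sup_pow hxa)
        · rwa [Ideal.span_singleton_pow, Ideal.span_singleton_le_iff_mem]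
        · rwa [Ideal.span_singleton_pow, Ideal.span_singleton_le_iff_mem]
    obtain ⟨y, rfl⟩ := Submodule.mkQ_surjective _ y
    obtain ⟨x, rfl⟩ := Ideal.Quotient.mk_surjective y
    obtain ⟨p, hp, q, hq, rfl⟩ := Submodule.mem_sup.mp (hT x)
    obtain ⟨c, rfl⟩ := Submodule.mem_span_range_iff_exists_fun R |>.mp hp
    refine ⟨c, ?_⟩
    obtain ⟨q₁, hq₁, q₂, hq₂, rfl⟩ := Submodule.mem_sup.mp hq
    simp only [LinearMap.comp_apply, Submodule.mkQ_apply, f, AlgHom.toLinearMap_apply, Ideal.Quotient.mkₐ_eq_mk,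
      Fintype.linearCombination_apply]
    rw [Submodule.Quotient.eq, ← map_sub, sub_add_cancel_left, map_neg, neg_mem_iff,
      map_add, Ideal.Quotient.eq_zero_iff_mem.mpr hq₂, add_zero]
    have h1 : q₁ ∈ ((maximalIdeal R) • ⊤ : Submodule R S) := by
      rw [Ideal.smul_top_eq_map]; exact hq₁
    exact Submodule.smul_top_le_comap_smul_top (maximalIdeal R) (Ideal.Quotient.mkₐ R I).toLinearMap h1
  refine ⟨Module.Finite.of_surjective f hf, fun x => ?_⟩
  obtain ⟨c, hc⟩ := hf (Ideal.Quotient.mk I x)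
  refine ⟨_, ?_, Ideal.Quotient.eq.mp (Eq.symm hc)⟩
  simp only [Fintype.linearCombination_apply, mon]
  refine Subalgebra.sum_mem _ fun p _ => Subalgebra.smul_mem _ (mul_mem ?_ ?_) _
  · exact pow_mem (Algebra.subset_adjoin (by simp)) _
  · exact pow_mem (Algebra.subset_adjoin (by simp)) _

/-- `t` outside `(m,u)` divides no nonzero constant modulo `u`; iterating, none at all -/
theorem UVData.const_eq_zero (D : UVData Δ S) [IsDomain R] (hP : Prime Δ) (hΔ : Δ ∈ maximalIdeal R) {t : S}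
    (ht : t ∉ D.M hΔ) (ht' : t ∉ D.swap.M hΔ) (hnu : ¬ IsUnit t) {c : R} {y : S}
    (hc : algebraMap R S c = t * y) : c = 0 := by
  haveI := isPrime_span_bar hP
  haveI := nontrivial_bar hΔ
  haveI : IsLocalRing (R ⧸ Ideal.span {Δ}) := IsLocalRing.of_surjective' _ Ideal.Quotient.mk_surjective
  have hmap : (D.φu t).map (residue (R ⧸ Ideal.span {Δ})) ≠ 0 := by
    intro h
    apply ht
    rw [UVData.M, RingHom.mem_ker]
    ext i
    have hi := congrArg (PowerSeries.coeff i) h
    rw [PowerSeries.coeff_map, map_zero, residue_eq_zero_iff] at hi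
    obtain ⟨d, hd⟩ := Ideal.Quotient.mk_surjective (PowerSeries.coeff i (D.φu t))
    simp only [UVData.psi, RingHom.comp_apply, PowerSeries.coeff_map, map_zero, ← hd, res,
      Ideal.Quotient.lift_mk, residue_eq_zero_iff]
    intro hu
    rw [← hd] at hi
    exact hi (hu.map _)
  have H := PowerSeries.IsWeierstrassDivisor.of_map_ne_zero hmap
  have hord : 0 < ((D.φu t).map (Ideal.Quotient.mk (maximalIdeal (R ⧸ Ideal.span {Δ})))).order.toNat := by
    by_contra! h0
    refine hnu (D.isUnit_of_isUnit hΔ (PowerSeries.isUnit_iff_constantCoeff.mpr ?_))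
    have hne : ((D.φu t).map (Ideal.Quotient.mk (maximalIdeal (R ⧸ Ideal.span {Δ})))).order ≠ ⊤ := by
      rw [Ne, PowerSeries.order_eq_top]; exact hmap
    have := PowerSeries.coeff_order hmap
    rw [show ((D.φu t).map (residue (R ⧸ Ideal.span {Δ}))).order.toNat = 0 from Nat.le_zero.mp h0] at this
    rw [← notMem_maximalIdeal, ← residue_eq_zero_iff, ← PowerSeries.coeff_zero_eq_constantCoeff_apply]
    rwa [PowerSeries.coeff_map] at this
  have step : ∀ (c : R) (y : S), algebraMap R S c = t * y →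
      ∃ c' y', c = Δ * c' ∧ algebraMap R S c' = t * y' := by
    intro c y hc
    have h0 := H.eq_zero_of_mul_eq (q := D.φu y) (r := Polynomial.C (Ideal.Quotient.mk _ c))
      (lt_of_le_of_lt Polynomial.degree_C_le (by exact_mod_cast hord))
      (by rw [Polynomial.coe_C, ← D.φu_C, hc, map_mul])
    obtain ⟨y₁, rfl⟩ := D.ker_u y h0.1
    obtain ⟨c', rfl⟩ := Ideal.mem_span_singleton.mp
      (Ideal.Quotient.eq_zero_iff_mem.mp (Polynomial.C_eq_zero.mp h0.2))
    have h1 : D.v * algebraMap R S c' = t * y₁ := by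
      refine sub_eq_zero.mp (D.reg_u _ ?_)
      linear_combination hc + algebraMap R S c' * D.mul - map_mul (algebraMap R S) Δ c'
    have hne : D.φv t ≠ 0 := fun h => ht' (by
      simp [UVData.M, UVData.psi, UVData.swap, RingHom.mem_ker, h])
    have h2 : D.φv y₁ = 0 := by
      have := congrArg D.φv h1
      rw [map_mul, D.φv_v, zero_mul, map_mul] at this
      exact (mul_eq_zero.mp this.symm).resolve_left hne
    obtain ⟨y₂, rfl⟩ := D.ker_v y₁ h2
    exact ⟨c', y₂, rfl, sub_eq_zero.mp (D.reg_v _ (by linear_combination h1))⟩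
  have key : ∀ (n : ℕ) (c : R) (y : S), algebraMap R S c = t * y → Δ ^ n ∣ c := by
    intro n
    induction n with
    | zero => simp
    | succ n ih =>
      intro c y hc
      obtain ⟨c', y', rfl, hc'⟩ := step c y hc
      rw [pow_succ']
      exact mul_dvd_mul_left _ (ih c' y' hc')
  have hne : Ideal.span {Δ} ≠ ⊤ := (isPrime_span_bar hP).ne_top
  rw [← Submodule.mem_bot (R := R), ← Ideal.iInf_pow_eq_bot_of_isLocalRing _ hne]
  simp only [Submodule.mem_iInf, Ideal.span_singleton_pow, Ideal.mem_span_singleton]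
  exact fun n => key n c y hc

open Polynomial in
theorem UVData.exists_prime_dvd (D : UVData Δ S) [IsDomain R] [IsDomain S] [IsIntegrallyClosed R] (hP : Prime Δ)
    (hΔ : Δ ∈ maximalIdeal R) {t : S}
    (ht : t ∉ D.M hΔ) (ht' : t ∉ D.swap.M hΔ) (hnu : ¬ IsUnit t) : ∃ g, Prime g ∧ g ∣ t := by
  obtain ⟨Q, hQ, hIQ, hdisj⟩ := Ideal.exists_le_prime_disjoint (Ideal.span {t})
    ((nonZeroDivisors R).map (algebraMap R S : R →* S)) (by
      rw [Set.disjoint_left]
      rintro _ hx ⟨c, hc, rfl⟩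
      obtain ⟨y, hy⟩ := Ideal.mem_span_singleton'.mp hx
      exact nonZeroDivisors.ne_zero hc (D.const_eq_zero hP hΔ ht ht' hnu
        (show algebraMap R S c = t * y by rw [mul_comm t]; exact hy.symm)))
  have hQR : ∀ c : R, algebraMap R S c ∈ Q → c = 0 := fun c hc => by
    by_contra h
    exact Set.disjoint_left.mp hdisj hc ⟨c, mem_nonZeroDivisors_of_ne_zero h, rfl⟩
  have huQ : D.u ∉ Q := fun h => hP.ne_zero (hQR Δ (D.mul ▸ Ideal.mul_mem_right _ _ h))
  have htQ : t ∈ Q := hIQ (Ideal.mem_span_singleton_self t)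
  obtain ⟨e, he1, he, he'⟩ := D.exists_pow_mem hΔ ht ht'
  replace he := sup_le_sup_left hIQ _ he
  replace he' := sup_le_sup_left hIQ _ he'
  obtain ⟨hfin, happ⟩ := D.finite_quotient hΔ Q hQ.ne_top e he he'
  haveI : Module.IsTorsionFree R (S ⧸ Q) :=
    Module.isTorsionFree_iff_algebraMap_injective.mpr ((injective_iff_map_eq_zero _).mpr fun c hc =>
      hQR c (Ideal.Quotient.eq_zero_iff_mem.mp hc))
  have hint : IsIntegral R (Ideal.Quotient.mk Q D.u) := Algebra.IsIntegral.isIntegral _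
  set G := minpoly R (Ideal.Quotient.mk Q D.u) with hG
  have hGQ : ∀ H : R[X], aeval D.u H ∈ Q → G ∣ H := fun H hH =>
    minpoly.isIntegrallyClosed_dvd hint (by
      rw [← Ideal.Quotient.mkₐ_eq_mk R, aeval_algHom_apply]
      exact Ideal.Quotient.eq_zero_iff_mem.mpr hH)
  have hGu : aeval D.u G ∈ Q := by
    rw [← Ideal.Quotient.eq_zero_iff_mem, ← Ideal.Quotient.mkₐ_eq_mk R, ← aeval_algHom_apply]
    exact minpoly.aeval R _
  have hG0 : aeval D.u G ≠ 0 := by
    intro h
    have h1 := congrArg D.φv h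
    rw [aeval_def, hom_eval₂, map_zero, D.φv_u] at h1
    have h2 : D.φv.comp (algebraMap R S) = PowerSeries.C.comp (Ideal.Quotient.mk _) :=
      RingHom.ext fun c => D.φv_C c
    rw [h2, ← eval₂_map, eval₂_C_X_eq_coe, Polynomial.coe_eq_zero_iff] at h1
    haveI := nontrivial_bar hΔ
    exact ((minpoly.monic hint).map _).ne_zero h1
  have hu := D.prime_u hP hΔ
  obtain ⟨k, g, hug, hg⟩ := WfDvdMonoid.max_power_factor hG0 hu.irreducible
  have hgQ : g ∈ Q := by
    rw [hg] at hGu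
    exact (hQ.mem_or_mem hGu).resolve_left fun h => huQ (hQ.mem_of_pow_mem _ h)
  have hadj : ∀ a ∈ Algebra.adjoin R {D.u, D.v}, ∃ (N : ℕ) (H : R[X]), D.u ^ N * a = aeval D.u H := by
    intro a ha
    induction ha using Algebra.adjoin_induction with
    | mem x hx =>
      rcases hx with rfl | hx
      · exact ⟨0, X, by simp⟩
      · obtain rfl := Set.mem_singleton_iff.mp hx
        exact ⟨1, C Δ, by simp [D.mul]⟩
    | algebraMap r => exact ⟨0, C r, by simp⟩
    | add x y _ _ hx hy =>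
      obtain ⟨N, H, h1⟩ := hx
      obtain ⟨N', H', h2⟩ := hy
      exact ⟨N + N', X ^ N' * H + X ^ N * H', by simp [← h1, ← h2, pow_add]; ring⟩
    | mul x y _ _ hx hy =>
      obtain ⟨N, H, h1⟩ := hx
      obtain ⟨N', H', h2⟩ := hy
      exact ⟨N + N', H * H', by simp [← h1, ← h2, pow_add]; ring⟩
  have hgen : ∀ a ∈ Algebra.adjoin R {D.u, D.v}, a ∈ Q → g ∣ a := by
    intro a ha haQ
    obtain ⟨N, H, hH⟩ := hadj a ha
    obtain ⟨H', rfl⟩ := hGQ H (hH ▸ Ideal.mul_mem_left _ _ haQ)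
    rw [map_mul, hg] at hH
    have hdvd : D.u ^ N ∣ g * (D.u ^ k * aeval D.u H') := ⟨a, by rw [hH]; ring⟩
    obtain ⟨w, hw⟩ := hu.pow_dvd_of_dvd_mul_left N hug hdvd
    exact ⟨w, mul_left_cancel₀ (pow_ne_zero N hu.ne_zero) (by
      rw [hH]; linear_combination g * hw)⟩
  have hlift : ∀ x ∈ (maximalIdeal R).map (algebraMap R S),
      ∃ b ∈ Algebra.adjoin R {D.u, D.v}, b ∈ (maximalIdeal R).map (algebraMap R S) ∧ x - b ∈ Q := by
    intro x hx
    induction hx using Submodule.span_induction with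
    | mem x hx =>
      obtain ⟨c, hc, rfl⟩ := hx
      exact ⟨_, Subalgebra.algebraMap_mem _ c, Ideal.mem_map_of_mem _ hc, by simp⟩
    | zero => exact ⟨0, zero_mem _, zero_mem _, by simp⟩
    | add x y _ _ hx hy =>
      obtain ⟨b, h1, h2, h3⟩ := hx
      obtain ⟨b', h1', h2', h3'⟩ := hy
      exact ⟨b + b', add_mem h1 h1', add_mem h2 h2', by simpa [add_sub_add_comm] using add_mem h3 h3'⟩
    | smul s x _ hx =>
      obtain ⟨b, h1, h2, h3⟩ := hx
      obtain ⟨a, ha, hsa⟩ := happ s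
      refine ⟨a * b, mul_mem ha h1, Ideal.mul_mem_left _ _ h2, ?_⟩
      rw [smul_eq_mul, show s * x - a * b = (s - a) * x + a * (x - b) by ring]
      exact add_mem (Ideal.mul_mem_right _ _ hsa) (Ideal.mul_mem_left _ _ h3)
  obtain ⟨p, hp, q, hq, hpq⟩ := Submodule.mem_sup.mp (add_mem he he')
  obtain ⟨b, hb1, hb2, hb3⟩ := hlift p hp
  have ha1 : D.u ^ e + D.v ^ e - b ∈ Algebra.adjoin R {D.u, D.v} :=
    sub_mem (add_mem (pow_mem (Algebra.subset_adjoin (by simp)) _) (pow_mem (Algebra.subset_adjoin (by simp)) _)) hb1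
  have ha2 : D.u ^ e + D.v ^ e - b ∈ Q := by
    rw [show D.u ^ e + D.v ^ e - b = (p - b) + q by linear_combination -hpq]
    exact add_mem hb3 hq
  have he0 : e ≠ 0 := by omega
  have hgM : ∀ (D' : UVData Δ S), D'.u ^ e + D'.v ^ e = D.u ^ e + D.v ^ e → g ∉ D'.M hΔ := by
    intro D' hD' hgm
    obtain ⟨w, hw⟩ := hgen _ ha1 ha2
    have := (hw ▸ Ideal.mul_mem_right w _ hgm : D.u ^ e + D.v ^ e - b ∈ D'.M hΔ)
    rw [← hD', UVData.M, RingHom.mem_ker, map_sub, (D'.map_le_M hΔ hb2 : D'.psi hΔ b = 0), map_add,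
      map_pow, map_pow, D'.psi_u, D'.psi_v, zero_pow he0, zero_add, sub_zero] at this
    exact pow_ne_zero _ PowerSeries.X_ne_zero this
  obtain ⟨e₂, -, hf, hf'⟩ := D.exists_pow_mem hΔ (hgM D rfl) (hgM D.swap (by simp [UVData.swap, add_comm]))
  have hgnu : ¬ IsUnit g := fun h => hQ.ne_top (Ideal.eq_top_of_isUnit_mem _ hgQ h)
  obtain ⟨-, happ₂⟩ := D.finite_quotient hΔ (Ideal.span {g})
    (by simpa [Ideal.span_singleton_eq_top] using hgnu) e₂ hf hf'
  have hQg : Q = Ideal.span {g} := by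
    refine le_antisymm (fun x hx => ?_) ((Ideal.span_singleton_le_iff_mem _).mpr hgQ)
    obtain ⟨a, ha, hxa⟩ := happ₂ x
    have haQ : a ∈ Q := by
      have := Q.sub_mem hx ((Ideal.span_singleton_le_iff_mem _).mpr hgQ hxa)
      simpa using this
    have := add_mem hxa (Ideal.mem_span_singleton.mpr (hgen a ha haQ))
    simpa using this
  have hg0 : g ≠ 0 := fun h => hG0 (by rw [hg, h, mul_zero])
  refine ⟨g, (Ideal.span_singleton_prime hg0).mp (hQg ▸ hQ), ?_⟩
  rw [← Ideal.mem_span_singleton, ← hQg]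
  exact htQ

end Groth.Agent.UVD13201
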